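import Cfsg.Agent.ZassAbelian.Final

/-!
Sharp triple transitivity, and the setting attached to a sharply triply transitive group.
-/

set_option autoImplicit false
set_option linter.style.haveILetI false
set_option linter.unusedSectionVars false

namespace CfsgLib.ZassAbelian

open MulAction

variable {G Ω : Type*} [Group G] [MulAction G Ω] [Finite G]

namespace Setting

variable (D : Setting G Ω)

include D

theorem stabilizer_three (t : Fin 3 ↪ Ω) : stabilizer G t = ⊥ := by
  rw [Subgroup.eq_bot_iff_forall]
  intro g hg
  have h : ∀ i, g • t i = t i := fun i => congrArg (fun f : Fin 3 ↪ Ω => f i) hg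
  exact D.three g (t 0) (t 1) (t 2) (t.injective.ne (by decide)) (t.injective.ne (by decide))
    (t.injective.ne (by decide)) (h 0) (h 1) (h 2)

/-- For `d = q - 1` the action is sharply triply transitive. -/
theorem three_pretransitive (hd : Nat.card D.H = Nat.card D.F - 1) :
    IsMultiplyPretransitive G Ω 3 := by
  classical
  haveI := D.finite_Omega
  haveI := Fintype.ofFinite Ω
  have hq := D.two_le_q
  have hcard : Nat.card G = Nat.card (Fin 3 ↪ Ω) := by
    rw [D.card_G, hd, Nat.card_eq_fintype_card (α := Fin 3 ↪ Ω), Fintype.card_embedding_eq,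
      Fintype.card_fin, ← Nat.card_eq_fintype_card, D.card_Omega]
    obtain ⟨n, hn⟩ : ∃ n, Nat.card D.F = n + 2 := ⟨Nat.card D.F - 2, by omega⟩
    rw [hn]
    simp [Nat.descFactorial]
    ring
  have h0 : ∀ x : Fin 3 ↪ Ω, Function.Bijective (fun g : G => g • x) := fun x => by
    refine (Nat.bijective_iff_injective_and_card _).2 ⟨fun g g' h => ?_, hcard⟩
    have h1 : g'⁻¹ * g ∈ stabilizer G x := by
      rw [mem_stabilizer_iff, mul_smul, show g • x = g' • x from h, inv_smul_smul]
    rw [D.stabilizer_three x, Subgroup.mem_bot, inv_mul_eq_one] at h1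
    exact h1.symm
  exact ⟨fun x y => (h0 x).2 y⟩

end Setting

end CfsgLib.ZassAbelian
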