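import Cfsg.Agent.ZassAbelian.Parity
import Cfsg.Agent.ZassAbelian.Final
import Cfsg.Agent.ZassAbelian.Sharp
import Mathlib.FieldTheory.Finite.Basic
import Mathlib.FieldTheory.Finite.Extension
import Mathlib.RingTheory.SimpleRing.Principal

/-!
Sharply triply transitive groups of degree `p ^ f + 1` with `f` odd have commutative two-point
stabilisers.
-/

set_option autoImplicit false
set_option linter.style.haveILetI false
set_option linter.unusedSectionVars false

namespace CfsgLib.ZassAbelian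

open MulAction

open Polynomial in
/-- Every element of a finite field is a sum of two squares. -/
theorem exists_two_squares {K : Type*} [Field K] [Fintype K] (a : K) :
    ∃ u v : K, u ^ 2 + v ^ 2 = a := by
  classical
  by_cases h2 : ringChar K = 2
  · obtain ⟨u, hu⟩ := FiniteField.isSquare_of_char_two h2 a
    exact ⟨u, 0, by rw [hu]; ring⟩
  · obtain ⟨u, v, huv⟩ : ∃ u v, (X ^ 2 : K[X]).eval u + (X ^ 2 - C a).eval v = 0 :=
      FiniteField.exists_root_sum_quadratic (degree_X_pow 2) (degree_X_pow_sub_C (by decide) _)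
        (FiniteField.odd_card_of_char_ne_two h2)
    refine ⟨u, v, ?_⟩
    rw [← sub_eq_zero]
    simpa only [eval_C, eval_X, eval_pow, eval_sub, ← add_sub_assoc] using huv

/-- An involutive field automorphism of a finite field of odd degree over the prime field is
trivial. -/
theorem ringHom_eq_id_of_odd_degree {K : Type*} [Field K] [Fintype K] {p f : ℕ} (hp : p.Prime)
    (hK : Fintype.card K = p ^ f) (hf : Odd f) (σ : K →+* K) (h2 : ∀ x, σ (σ x) = x) :
    ∀ x, σ x = x := by
  haveI := Fact.mk hp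
  haveI : CharP K p := charP_of_card_eq_prime_pow hK
  letI : Algebra (ZMod p) K := ZMod.algebra K p
  let τ : Gal(K/ZMod p) := AlgEquiv.ofRingEquiv
    (f := RingEquiv.ofBijective σ (Function.Involutive.bijective h2)) (fun r =>
      RingHom.congr_fun (Subsingleton.elim (σ.comp (algebraMap (ZMod p) K))
        (algebraMap (ZMod p) K)) r)
  have hfr : Module.finrank (ZMod p) K = f := by
    have h := Module.card_eq_pow_finrank (K := ZMod p) (V := K)
    rw [ZMod.card, hK] at h
    exact (Nat.pow_right_injective hp.two_le h).symm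
  have h1 : orderOf τ ∣ 2 := by
    refine orderOf_dvd_of_pow_eq_one ?_
    rw [sq]; ext x; exact h2 x
  have h3 : orderOf τ ∣ f := by
    rw [← hfr, ← IsGalois.card_aut_eq_finrank (ZMod p) K]
    exact orderOf_dvd_natCard τ
  have h4 : τ = 1 := orderOf_eq_one_iff.1
    (Nat.dvd_one.1 ((Nat.coprime_two_left.2 hf) ▸ Nat.dvd_gcd h1 h3))
  exact fun x => AlgEquiv.congr_fun h4 x

/-- An additive map semilinear with respect to the non-zero squares of a finite field, with
trivial square on them, is linear when the degree is odd. -/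
theorem semilinear_trivial {K : Type*} [Field K] [Fintype K] {p f : ℕ} (hp : p.Prime)
    (hK : Fintype.card K = p ^ f) (hf : Odd f) (ψ : K → K) (hψadd : ∀ x y, ψ (x + y) = ψ x + ψ y)
    (hψinj : Function.Injective ψ)
    (hS : ∀ a : K, a ≠ 0 → ∃ b : K, (∀ x, ψ (a * a * x) = b * ψ x) ∧
      (∀ x, ψ (b * x) = a * a * ψ x)) :
    ∀ a x, ψ (a * a * x) = a * a * ψ x := by
  have h0 : ψ 0 = 0 := by
    have := hψadd 0 0
    rwa [add_zero, left_eq_add] at this
  have h10 : ψ 1 ≠ 0 := fun e => one_ne_zero (hψinj (e.trans h0.symm))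
  let σ : K → K := fun a => ψ a / ψ 1
  have key : ∀ a x : K, ψ (a * x) = σ a * ψ x := by
    have sq : ∀ a x : K, ψ (a * a * x) = σ (a * a) * ψ x := by
      intro a x
      rcases eq_or_ne a 0 with rfl | ha
      · simp [σ, h0]
      obtain ⟨b, hb, -⟩ := hS a ha
      have h1 := hb 1
      rw [mul_one] at h1
      rw [hb x, show σ (a * a) = b from by show ψ (a * a) / ψ 1 = b; rw [h1, mul_div_cancel_right₀ _ h10]]
    intro a x
    obtain ⟨u, v, huv⟩ := exists_two_squares a
    have : σ a = σ (u * u) + σ (v * v) := by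
      show ψ a / ψ 1 = ψ (u * u) / ψ 1 + ψ (v * v) / ψ 1
      rw [← add_div, ← hψadd, ← pow_two, ← pow_two, huv]
    rw [this, ← huv, pow_two, pow_two, add_mul, hψadd, sq, sq, add_mul]
  let σh : K →+* K :=
    { toFun := σ
      map_one' := div_self h10
      map_zero' := by show ψ 0 / ψ 1 = 0; rw [h0, zero_div]
      map_add' := fun x y => by show ψ (x + y) / ψ 1 = _; rw [hψadd, add_div]
      map_mul' := fun x y => by
        show ψ (x * y) / ψ 1 = σ x * σ y
        rw [key, mul_div_assoc] }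
  have h2 : ∀ x, σ (σ x) = x := by
    have sq : ∀ a : K, σ (σ (a * a)) = a * a := by
      intro a
      rcases eq_or_ne a 0 with rfl | ha
      · simp [σ, h0]
      obtain ⟨b, hb, hb'⟩ := hS a ha
      have h1 := hb 1
      have h1' := hb' 1
      rw [mul_one] at h1 h1'
      have e1 : σ (a * a) = b := by
        show ψ (a * a) / ψ 1 = b; rw [h1, mul_div_cancel_right₀ _ h10]
      rw [e1]
      show ψ b / ψ 1 = a * a
      rw [h1', mul_div_cancel_right₀ _ h10]
    intro x
    obtain ⟨u, v, huv⟩ := exists_two_squares x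
    show σh (σh x) = x
    rw [← huv, pow_two, pow_two, map_add, map_add]
    show σ (σ (u * u)) + σ (σ (v * v)) = _
    rw [sq, sq]
  intro a x
  rw [key, show σ (a * a) = a * a from ringHom_eq_id_of_odd_degree hp hK hf σh h2 (a * a)]

variable {G Ω : Type*} [Group G] [MulAction G Ω] [Finite G] (D : Setting G Ω)

namespace Setting

include D

/-- If the kernel has prime order, `H` is commutative. -/
theorem H_comm_of_prime (hq : (Nat.card D.F).Prime) : ∀ a ∈ D.H, ∀ b ∈ D.H, a * b = b * a := by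
  haveI := Fact.mk hq
  haveI : IsCyclic D.F := isCyclic_of_prime_card rfl
  intro a ha b hb
  have hinj : Function.Injective D.conjF := by
    rw [injective_iff_map_eq_one]
    intro x hx
    by_contra hne
    haveI : Nontrivial D.F := Finite.one_lt_card_iff_nontrivial.1 hq.one_lt
    obtain ⟨u, hu⟩ := exists_ne (1 : D.F)
    exact hu (D.conjF_fpf x hne u (by rw [hx]; rfl))
  have : D.conjF ((⟨a, ha⟩ : D.H) * ⟨b, hb⟩) = D.conjF (⟨b, hb⟩ * ⟨a, ha⟩) := by
    rw [map_mul, map_mul]
    exact (IsCyclic.mulAutMulEquiv D.F).injective (by rw [map_mul, map_mul, mul_comm])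
  exact congrArg Subtype.val (hinj this)

/-- For `q = p ^ f`, `f` odd, `d = q - 1`, the two-point stabiliser is commutative. -/
theorem H_comm_of_odd_exponent (hd : Nat.card D.H = Nat.card D.F - 1) {p f : ℕ} (hp : p.Prime)
    (hp2 : p ≠ 2) (hf : Odd f) (hF : Nat.card D.F = p ^ f) :
    ∀ a ∈ D.H, ∀ b ∈ D.H, a * b = b * a := by
  classical
  by_cases hf1 : f = 1
  · exact D.H_comm_of_prime (by rw [hF, hf1, pow_one]; exact hp)
  haveI := D.finite_Omega
  haveI := Fintype.ofFinite Ω
  haveI : Fact (Nat.Prime 2) := ⟨Nat.prime_two⟩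
  have hpodd := hp.odd_of_ne_two hp2
  have hqo : Odd (Nat.card D.F) := by rw [hF]; exact hpodd.pow
  have hns : ¬ IsSquare (Nat.card D.F) := by
    rw [hF]
    rintro ⟨r, hr⟩
    obtain ⟨k, -, hk⟩ := (Nat.dvd_prime_pow hp).1 (hr ▸ dvd_mul_right r r : r ∣ p ^ f)
    rw [hk, ← pow_add] at hr
    have := Nat.pow_right_injective hp.two_le hr
    rw [Nat.odd_iff] at hf; omega
  obtain ⟨N, hN, hidx, hFN, h₀, hh₀, hh₀N⟩ :=
    D.exists_index_two hd hqo default (D.sylow_two_cyclic hns default)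
  obtain ⟨hqe, hde⟩ := D.card_restrict_H hN hFN hidx
  set E := D.restrict N hN hFN with hE
  have hq3 : 3 ≤ Nat.card D.F := by
    have := D.two_le_q; rw [Nat.odd_iff] at hqo; omega
  have hdq : 2 * Nat.card E.H = Nat.card E.F - 1 := by omega
  obtain ⟨-, hinv⟩ : 2 * Nat.card E.H = Nat.card E.F - 1 ∧ E.Inverted := by
    rcases classify E with h | h | ⟨M, hMn, ht, hfree⟩
    · omega
    · exact h
    exfalso
    haveI := hMn
    haveI : IsPretransitive M Ω := isPretransitive_of_exists ht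
    haveI := E.faithful
    obtain ⟨-, r, j, hr, -, hrj, -⟩ :=
      CfsgLib.PermGroups.regular_normal_elementary_of_two_transitive E.two_pretransitive
        E.two_le_card_Omega M (stabilizer_of_free hfree)
    rw [D.card_Omega, hF] at hrj
    obtain rfl : r = 2 := by
      have h2 : 2 ∣ r ^ j := by
        rw [← hrj]
        have : Odd (p ^ f) := hpodd.pow
        rw [Nat.odd_iff] at this; omega
      exact ((Nat.prime_dvd_prime_iff_eq Nat.prime_two hr).1 (Nat.prime_two.dvd_of_dvd_pow h2)).symm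
    have h1 := hrj
    obtain ⟨k, hk⟩ := hf
    have hdiv : p + 1 ∣ p ^ f + 1 := by
      have := Odd.nat_add_dvd_pow_add_pow p 1 (n := f) ⟨k, hk⟩
      rwa [one_pow] at this
    obtain ⟨s, hs⟩ := hdiv
    have hsodd : Odd s := by
      have hz : ((∑ i ∈ Finset.range f, (p : ℤ) ^ i * (-1) ^ (f - 1 - i))) = (s : ℤ) := by
        have h := geom_sum₂_mul (p : ℤ) (-1) f
        rw [Odd.neg_one_pow ⟨k, hk⟩, sub_neg_eq_add, sub_neg_eq_add] at h
        have hs' : ((p : ℤ) + 1) * s = (p : ℤ) ^ f + 1 := by exact_mod_cast hs.symm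
        rw [← hs', mul_comm ((p : ℤ) + 1)] at h
        exact mul_right_cancel₀ (by positivity) h
      have h2 : ((s : ℕ) : ZMod 2) = 1 := by
        have hp1 : ((p : ℕ) : ZMod 2) = 1 := ZMod.natCast_eq_one_iff_odd.2 hpodd
        have h := congrArg (fun z : ℤ => (z : ZMod 2)) hz
        simp only [Int.cast_sum, Int.cast_mul, Int.cast_pow, Int.cast_natCast, Int.cast_neg,
          Int.cast_one, hp1, one_pow, one_mul, ZMod.neg_eq_self_mod_two, Finset.sum_const,
          Finset.card_range, nsmul_eq_mul, mul_one] at h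
        rw [← h, ZMod.natCast_eq_one_iff_odd]; exact ⟨k, hk⟩
      exact ZMod.natCast_eq_one_iff_odd.1 h2
    have hs1 : s = 1 := by
      obtain ⟨j, -, hj⟩ := (Nat.dvd_prime_pow Nat.prime_two).1 (h1 ▸ hs ▸ dvd_mul_left s (p + 1))
      rcases j with _ | j
      · exact hj
      · rw [hj, pow_succ, Nat.odd_iff] at hsodd; omega
    rw [hs1, mul_one, Nat.add_right_cancel_iff] at hs
    exact hf1 (Nat.pow_right_injective hp.two_le (hs.trans (pow_one p).symm))
  obtain ⟨w, -, -, -, hw⟩ := hinv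
  have hEc := E.commute_of_inverted hw
  obtain ⟨K, iF, iT, hK, ⟨C⟩⟩ := coord_of E hEc hdq.ge
  rw [hqe, hF] at hK
  have hmemF : ∀ x, ((C.τ x : N) : G) ∈ D.F := fun x => C.mem x
  have hHE : ∀ {k : G} (hk : k ∈ D.H) (hkN : k ∈ N), (⟨k, hkN⟩ : N) ∈ E.H := fun hk hkN =>
    E.mem_H.2 ⟨(D.mem_H.1 hk).1, (D.mem_H.1 hk).2⟩
  have hEH : ∀ k : E.H, ((k : N) : G) ∈ D.H := fun k =>
    D.mem_H.2 ⟨(E.mem_H.1 k.2).1, (E.mem_H.1 k.2).2⟩
  -- conjugation by an element of `H`
  have main : ∀ h ∈ D.H, ∀ k : E.H, h * ((k : N) : G) * h⁻¹ = ((k : N) : G) := by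
    intro h hh k
    have hcF : ∀ x, ∃ y, ((C.τ y : N) : G) = h * ((C.τ x : N) : G) * h⁻¹ := fun x => by
      have h1 := D.conj_F_of_H hh (hmemF x)
      obtain ⟨y, hy⟩ := C.surj ⟨_, hFN h1⟩ h1
      exact ⟨y, congrArg Subtype.val hy⟩
    choose ψ hψ using hcF
    have hτinj : Function.Injective (fun x => ((C.τ x : N) : G)) :=
      Subtype.val_injective.comp C.inj
    have hψadd : ∀ x y, ψ (x + y) = ψ x + ψ y := fun x y => hτinj <| by
      show ((C.τ _ : N) : G) = ((C.τ _ : N) : G)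
      rw [hψ, C.add, C.add, Subgroup.coe_mul, Subgroup.coe_mul, hψ, hψ]; group
    have hψinj : Function.Injective ψ := fun x y e => by
      have := congrArg (fun t => ((C.τ t : N) : G)) e
      simp only [hψ] at this
      exact hτinj (mul_left_cancel (mul_right_cancel this))
    have hconj : ∀ (k : E.H) x, ((k : N) : G) * ((C.τ x : N) : G) * ((k : N) : G)⁻¹ =
        ((C.τ ((C.μ k : K) * x) : N) : G) := fun k x => congrArg Subtype.val (C.conj k x)
    have hk' : ∀ k : E.H, ∃ k' : E.H, ((k' : N) : G) = h * ((k : N) : G) * h⁻¹ := fun k =>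
      ⟨⟨⟨_, hN.conj_mem _ (k : N).2 h⟩,
        hHE (D.H.mul_mem (D.H.mul_mem hh (hEH k)) (D.H.inv_mem hh)) _⟩, rfl⟩
    have hb : ∀ k k' : E.H, ((k' : N) : G) = h * ((k : N) : G) * h⁻¹ → ∀ x,
        ψ ((C.μ k : K) * x) = (C.μ k' : K) * ψ x := fun k k' e x => hτinj <| by
      show ((C.τ _ : N) : G) = ((C.τ _ : N) : G)
      rw [hψ, ← hconj, ← hconj, hψ, e]; group
    have hS : ∀ a : K, a ≠ 0 → ∃ b : K, (∀ x, ψ (a * a * x) = b * ψ x) ∧
        (∀ x, ψ (b * x) = a * a * ψ x) := by
      intro a ha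
      obtain ⟨k₁, hk₁⟩ := exists_eq_sq C (hK.trans (hF.symm.trans hqe.symm)) hdq.ge a ha
      obtain ⟨k₂, hk₂⟩ := hk' k₁
      obtain ⟨k₃, hk₃⟩ := hk' k₂
      have hhh : (⟨h * h, by
          have := Subgroup.mul_self_mem_of_index_two hidx h; exact this⟩ : N) ∈ E.H :=
        hHE (D.H.mul_mem hh hh) _
      have e3 : k₃ = k₁ := by
        refine Subtype.ext (Subtype.ext ?_)
        have h5 := congrArg Subtype.val (hEc _ hhh _ k₁.2)
        simp only [Subgroup.coe_mul] at h5
        rw [hk₃, hk₂, show h * (h * ((k₁ : N) : G) * h⁻¹) * h⁻¹ =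
          h * h * ((k₁ : N) : G) * (h * h)⁻¹ by group, h5]
        group
      refine ⟨C.μ k₂, fun x => ?_, fun x => ?_⟩
      · rw [← hk₁]; exact hb k₁ k₂ hk₂ x
      · rw [← hk₁]; exact hb k₂ k₁ (e3 ▸ hk₃) x
    obtain ⟨k', hke⟩ := hk' k
    rw [← hke]
    congr 2
    refine C.μinj (Units.ext ?_)
    have hlin := semilinear_trivial hp hK hf ψ hψadd hψinj hS
    have hsurjψ : Function.Surjective ψ := Finite.injective_iff_surjective.1 hψinj
    obtain ⟨x, hx⟩ := hsurjψ 1
    have hklin : ψ ((C.μ k : K) * x) = (C.μ k : K) * ψ x := by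
      obtain ⟨u, v, huv⟩ := exists_two_squares (C.μ k : K)
      rw [← huv, pow_two, pow_two, add_mul, hψadd, hlin, hlin, add_mul]
    rw [hb k k' hke x, hx, mul_one, mul_one] at hklin
    exact hklin
  -- `H` is generated by `h₀` and `H ∩ N`
  have h0c : ∀ b ∈ D.H, b * h₀ = h₀ * b := by
    intro b hb
    by_cases hbN : b ∈ N
    · have := main h₀ hh₀ ⟨⟨b, hbN⟩, hHE hb hbN⟩
      exact (mul_inv_eq_iff_eq_mul.1 this).symm
    · have hm : h₀⁻¹ * b ∈ N := by
        rw [Subgroup.mul_mem_iff_of_index_two hidx, inv_mem_iff]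
        exact iff_of_false hh₀N hbN
      have := main h₀ hh₀ ⟨⟨_, hm⟩, hHE (D.H.mul_mem (D.H.inv_mem hh₀) hb) hm⟩
      have := mul_inv_eq_iff_eq_mul.1 this
      calc b * h₀ = h₀ * (h₀⁻¹ * b * h₀) := by group
        _ = h₀ * b := by rw [← this]; group
  intro a ha b hb
  by_cases haN : a ∈ N
  · have := main b hb ⟨⟨a, haN⟩, hHE ha haN⟩
    exact (mul_inv_eq_iff_eq_mul.1 this).symm
  · have hm : h₀⁻¹ * a ∈ N := by
      rw [Subgroup.mul_mem_iff_of_index_two hidx, inv_mem_iff]
      exact iff_of_false hh₀N haN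
    have h1 := main b hb ⟨⟨_, hm⟩, hHE (D.H.mul_mem (D.H.inv_mem hh₀) ha) hm⟩
    have h2 : b * (h₀⁻¹ * a) = h₀⁻¹ * a * b := mul_inv_eq_iff_eq_mul.1 h1
    calc a * b = h₀ * (h₀⁻¹ * a * b) := by group
      _ = h₀ * b * (h₀⁻¹ * a) := by rw [← h2, mul_assoc]
      _ = b * h₀ * (h₀⁻¹ * a) := by rw [h0c b hb]
      _ = b * a := by group

end Setting

end CfsgLib.ZassAbelian
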