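import Cfsg.Agent.ZassAbelian.OddExp
import Cfsg.Agent.PermGroups.RegularNormal
import Mathlib.GroupTheory.Sylow
import Mathlib.FieldTheory.Finite.GaloisField

/-!
Transitive groups of degree `p + 1` and order `(p + 1) p d` with `d < p`.
-/

set_option autoImplicit false
set_option linter.style.haveILetI false
set_option linter.unusedSectionVars false

namespace CfsgLib.ZassAbelian

open MulAction

variable {G Ω : Type*} [Group G] [MulAction G Ω]

/-- The setting attached to a transitive group of degree `p + 1` and order `(p + 1) p d`, `d < p`. -/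
theorem exists_setting_prime_add_one [Finite G] [Finite Ω] [FaithfulSMul G Ω]
    [IsPretransitive G Ω] {p d : ℕ} (hp : p.Prime) (hΩ : Nat.card Ω = p + 1)
    (hG : Nat.card G = (p + 1) * p * d) (hd : d < p) :
    ∃ D : Setting G Ω, Nat.card D.F = p ∧ Nat.card D.H = d := by
  classical
  haveI := Fact.mk hp
  haveI := Fintype.ofFinite Ω
  obtain ⟨i⟩ : Nonempty Ω := (Nat.card_pos_iff.1 (by rw [hΩ]; omega)).1
  set S := stabilizer G i with hS
  have hd0 : 0 < d := by
    rcases Nat.eq_zero_or_pos d with h | h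
    · rw [h, mul_zero] at hG
      exact absurd hG Nat.card_pos.ne'
    · exact h
  have hScard : Nat.card S = p * d := by
    have h1 := CfsgLib.PermGroups.card_mul_card_stabilizer (G := G) i
    rw [hΩ, hG, mul_assoc] at h1
    exact Nat.eq_of_mul_eq_mul_left (by omega) h1
  let P : Sylow p S := default
  have hfac : (p * d).factorization p = 1 := by
    rw [Nat.factorization_mul hp.ne_zero hd0.ne', Finsupp.add_apply, hp.factorization_self,
      Nat.factorization_eq_zero_of_not_dvd (fun h => absurd (Nat.le_of_dvd hd0 h) (by omega))]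
  have hPcard : Nat.card (P : Subgroup S) = p := by
    rw [P.card_eq_multiplicity, hScard, hfac, pow_one]
  have hPn : (P : Subgroup S).Normal := by
    have h1 := P.card_dvd_index
    have h2 := (P : Subgroup S).card_mul_index
    rw [hPcard, hScard] at h2
    rw [Nat.eq_of_mul_eq_mul_left hp.pos h2] at h1
    have h3 := card_sylow_modEq_one p S
    have h4 : Nat.card (Sylow p S) = 1 := by
      have h5 := Nat.le_of_dvd hd0 h1
      rw [Nat.ModEq, Nat.one_mod_eq_one.2 hp.ne_one, Nat.mod_eq_of_lt (by omega)] at h3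
      exact h3
    haveI := (Nat.card_eq_one_iff_unique.1 h4).1
    exact P.normal_of_subsingleton
  let F : Subgroup G := (P : Subgroup S).map S.subtype
  have hFcard : Nat.card F = p := by
    rw [Subgroup.card_map_of_injective S.subtype_injective, hPcard]
  have hFi : ∀ u ∈ F, u • i = i := by
    rintro _ ⟨k, -, rfl⟩
    exact k.2
  haveI : IsCyclic F := isCyclic_of_prime_card hFcard
  haveI : Fact (Nat.card F).Prime := ⟨hFcard.symm ▸ hp⟩
  obtain ⟨g, hg⟩ := exists_prime_orderOf_dvd_card' (G := F) p (by rw [hFcard])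
  have hgen : ∀ x : F, x ∈ Subgroup.zpowers g := fun x => by
    rw [Subgroup.eq_top_of_card_eq (Subgroup.zpowers g) (by rw [Nat.card_zpowers, hg, hFcard])]
    trivial
  obtain ⟨y₀, hy₀⟩ : ∃ y : Ω, (g : G) • y ≠ y := by
    by_contra h
    push Not at h
    have : (g : G) = 1 := FaithfulSMul.eq_of_smul_eq_smul fun a : Ω => by rw [h a, one_smul]
    rw [show g = 1 from Subtype.ext this, orderOf_one] at hg
    exact hp.ne_one hg.symm
  -- the orbit of `y₀` consists of all points other than `i`
  have hst : stabilizer F y₀ = ⊥ := by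
    rcases Subgroup.eq_bot_or_eq_top_of_prime_card (stabilizer F y₀) with h | h
    · exact h
    · have : g ∈ stabilizer F y₀ := by rw [h]; trivial
      exact absurd this hy₀
  have hy₀i : y₀ ≠ i := fun e => hy₀ (by rw [e]; exact hFi _ g.2)
  have horb : ∀ z, z ≠ i → ∃ u ∈ F, u • y₀ = z := by
    intro z hz
    let f : F → {z : Ω // z ≠ i} := fun u => ⟨(u : G) • y₀, fun e =>
      hy₀i (smul_left_cancel (u : G) (e.trans (hFi _ u.2).symm))⟩
    have hf : Function.Bijective f := by
      refine (Nat.bijective_iff_injective_and_card _).2 ⟨fun u v e => ?_, ?_⟩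
      · exact CfsgLib.PermGroups.orbitMap_injective hst (congrArg Subtype.val e)
      · rw [hFcard, Nat.card_eq_fintype_card, Fintype.card_subtype_compl,
          Fintype.card_subtype_eq, ← Nat.card_eq_fintype_card, hΩ]
        omega
    obtain ⟨u, hu⟩ := hf.2 ⟨z, hz⟩
    exact ⟨u, u.2, congrArg Subtype.val hu⟩
  have hFc : ∀ u ∈ F, ∀ v ∈ F, u * v = v * u := fun u hu v hv =>
    congrArg Subtype.val ((IsCyclic.isMulCommutative (α := F)).is_comm.comm (⟨u, hu⟩ : F) ⟨v, hv⟩)
  have hreg : ∀ y z : Ω, y ≠ i → z ≠ i → ∃ u ∈ F, u • y = z := by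
    intro y z hy hz
    obtain ⟨u, hu, rfl⟩ := horb y hy
    obtain ⟨v, hv, rfl⟩ := horb z hz
    exact ⟨v * u⁻¹, F.mul_mem hv (F.inv_mem hu), by rw [smul_smul, inv_mul_cancel_right]⟩
  have hfree : ∀ u ∈ F, ∀ y : Ω, y ≠ i → u • y = y → u = 1 := by
    intro u hu y hy e
    obtain ⟨v, hv, rfl⟩ := horb y hy
    rw [smul_smul, hFc u hu v hv, mul_smul] at e
    have : (⟨u, hu⟩ : F) ∈ stabilizer F y₀ := smul_left_cancel v e
    rw [hst, Subgroup.mem_bot] at this
    exact congrArg Subtype.val this
  have hnorm : ∀ a : G, a • i = i → ∀ u ∈ F, a * u * a⁻¹ ∈ F := by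
    rintro a ha _ ⟨k, hk, rfl⟩
    exact ⟨⟨a, ha⟩ * k * ⟨a, ha⟩⁻¹, hPn.conj_mem k hk _, rfl⟩
  have hpair : ∀ a b c e : Ω, a ≠ b → c ≠ e → ∃ x : G, x • a = c ∧ x • b = e := by
    intro a b c e hab hce
    obtain ⟨x, hx⟩ := exists_smul_eq G a i
    obtain ⟨y, hy⟩ := exists_smul_eq G c i
    obtain ⟨u, hu, hue⟩ := hreg (x • b) (y • e)
      (fun h => hab (smul_left_cancel x (hx.trans h.symm)))
      (fun h => hce (smul_left_cancel y (hy.trans h.symm)))
    exact ⟨y⁻¹ * u * x, by rw [mul_smul, mul_smul, hx, hFi u hu, inv_smul_eq_iff, hy],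
      by rw [mul_smul, mul_smul, hue, inv_smul_smul]⟩
  have h3 : ∀ a : G, ∀ y z : Ω, y ≠ i → z ≠ i → y ≠ z → a • i = i → a • y = y → a • z = z →
      a = 1 := by
    intro a y z hy hz hyz hai hay haz
    obtain ⟨u, hu, hue⟩ := hreg y z hy hz
    have hu1 : u ≠ 1 := by rintro rfl; exact hyz (by rw [← hue, one_smul])
    have hc : a * u * a⁻¹ = u := by
      have h1 : ((a * u * a⁻¹)⁻¹ * u) • y = y := by
        rw [mul_smul, inv_smul_eq_iff, hue, mul_smul, mul_smul,
          show a⁻¹ • y = y by rw [inv_smul_eq_iff, hay], hue, haz]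
      exact inv_mul_eq_one.1 (hfree _ (F.mul_mem (F.inv_mem (hnorm a hai u hu)) hu) y hy h1)
    have hall : ∀ v ∈ F, a * v * a⁻¹ = v := by
      intro v hv
      obtain ⟨n, hn⟩ : ∃ n : ℤ, u ^ n = v := by
        have htop : Subgroup.zpowers (⟨u, hu⟩ : F) = ⊤ :=
          (Subgroup.eq_bot_or_eq_top_of_prime_card _).resolve_left (by
            rw [Subgroup.zpowers_eq_bot]; exact fun e => hu1 (congrArg Subtype.val e))
        obtain ⟨n, hn⟩ := Subgroup.mem_zpowers_iff.1 (htop.symm ▸ Subgroup.mem_top (⟨v, hv⟩ : F))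
        exact ⟨n, congrArg Subtype.val hn⟩
      rw [← hn, ← conj_zpow, hc]
    refine FaithfulSMul.eq_of_smul_eq_smul fun w : Ω => ?_
    rw [one_smul]
    by_cases hw : w = i
    · rw [hw, hai]
    obtain ⟨v, hv, rfl⟩ := hreg y w hy hw
    rw [smul_smul, mul_inv_eq_iff_eq_mul.1 (hall v hv), mul_smul, hay]
  haveI : Nontrivial Ω := ⟨⟨y₀, i, hy₀i⟩⟩
  let D : Setting G Ω :=
    { i := i
      o := y₀
      io := hy₀i.symm
      pair := hpair
      three := fun a x y z hxy hyz hxz hax hay haz => by
        obtain ⟨t, ht⟩ := exists_smul_eq G x i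
        have hf : ∀ w : Ω, a • w = w → (t * a * t⁻¹) • t • w = t • w := fun w hw => by
          rw [mul_smul, inv_smul_smul, mul_smul, hw]
        refine conj_eq_one_iff.1 (h3 (t * a * t⁻¹) (t • y) (t • z) ?_ ?_ ?_ ?_ (hf y hay) (hf z haz))
        · exact fun e => hxy (smul_left_cancel t (ht.trans e.symm))
        · exact fun e => hxz (smul_left_cancel t (ht.trans e.symm))
        · exact fun e => hyz (smul_left_cancel t e)
        · have := hf x hax; rwa [ht] at this
      third := ⟨(g : G) • y₀, fun e => hy₀i (smul_left_cancel (g : G) (e.trans (hFi _ g.2).symm)),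
        hy₀⟩
      F := F
      Fle := hFi
      Fnorm := hnorm
      Fcomm := hFc
      reg := hreg
      free := hfree }
  refine ⟨D, hFcard, ?_⟩
  have h1 := D.card_G
  rw [hG, show Nat.card D.F = p from hFcard, mul_assoc] at h1
  exact (Nat.eq_of_mul_eq_mul_left hp.pos (Nat.eq_of_mul_eq_mul_left (by omega) h1)).symm

/-- The number of automorphisms of the field with `2 ^ r` elements. -/
theorem card_ringAut {K : Type*} [Field K] [Fintype K] {r : ℕ} (hK : Fintype.card K = 2 ^ r) :
    Nat.card (K ≃+* K) = r := by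
  haveI : Fact (Nat.Prime 2) := ⟨Nat.prime_two⟩
  haveI : CharP K 2 := charP_of_card_eq_prime_pow hK
  letI : Algebra (ZMod 2) K := ZMod.algebra K 2
  have hfr : Module.finrank (ZMod 2) K = r := by
    have h := Module.card_eq_pow_finrank (K := ZMod 2) (V := K)
    rw [ZMod.card, hK] at h
    exact (Nat.pow_right_injective le_rfl h).symm
  rw [← hfr, ← IsGalois.card_aut_eq_finrank (ZMod 2) K]
  exact Nat.card_congr
    { toFun := fun σ => AlgEquiv.ofRingEquiv (f := σ) fun c =>
        RingHom.congr_fun (Subsingleton.elim ((σ : K →+* K).comp (algebraMap (ZMod 2) K))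
          (algebraMap (ZMod 2) K)) c
      invFun := fun e => e.toRingEquiv
      left_inv := fun σ => by ext; rfl
      right_inv := fun e => by ext; rfl }

/-- With a regular normal subgroup: semi-affine maps over the field with `p + 1` elements. -/
theorem semiaffine_of_regular_normal [Finite G] (D : Setting G Ω) {p : ℕ} (hp : p.Prime)
    (hp2 : p ≠ 2) (hF : Nat.card D.F = p) (h : HasRegularNormal G Ω) :
    ∃ r : ℕ, r.Prime ∧ p + 1 = 2 ^ r ∧ (Nat.card D.H = 1 ∨ Nat.card D.H = r) ∧
      ∃ (K : Type) (_ : Field K) (_ : Fintype K) (pos : K ≃ Ω), Fintype.card K = 2 ^ r ∧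
        ∀ g : G, ∃ a : Kˣ, ∃ b : K, ∃ φ : K ≃+* K,
          ∀ x, g • pos x = pos ((a : K) * φ x + b) := by
  classical
  obtain ⟨M, hMn, ht, hfree⟩ := h
  haveI := hMn
  haveI : IsPretransitive M Ω := isPretransitive_of_exists ht
  haveI := D.faithful
  haveI := D.finite_Omega
  obtain ⟨hMc, e, r, he, -, her, -⟩ :=
    CfsgLib.PermGroups.regular_normal_elementary_of_two_transitive D.two_pretransitive
      D.two_le_card_Omega M (stabilizer_of_free hfree)
  rw [D.card_Omega, hF] at her
  have hpo := hp.odd_of_ne_two hp2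
  obtain rfl : e = 2 := by
    have h2 : 2 ∣ e ^ r := by rw [← her]; rw [Nat.odd_iff] at hpo; omega
    exact ((Nat.prime_dvd_prime_iff_eq Nat.prime_two he).1 (Nat.prime_two.dvd_of_dvd_pow h2)).symm
  have hrp : r.Prime := (Nat.prime_of_pow_sub_one_prime (a := 2) (n := r) (by
    rintro rfl
    rw [pow_one] at her; exact absurd hp.two_le (by omega)) (by
    rw [show 2 ^ r - 1 = p by omega]; exact hp)).2
  have hMcard : Nat.card M = p + 1 := by
    rw [CfsgLib.PermGroups.card_eq_of_regular (stabilizer_of_free hfree D.i), D.card_Omega, hF]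
  haveI : Nontrivial M := Finite.one_lt_card_iff_nontrivial.1 (by
    have := hp.two_le; rw [hMcard]; omega)
  letI : CommGroup M := { (inferInstance : Group M) with
    mul_comm := fun a b => hMc.is_comm.comm a b }
  -- the action of `F` on `M`
  let ρ : D.F →* AddMonoid.End (Additive M) :=
    { toFun := fun u =>
        { toFun := fun x => Additive.ofMul
            (⟨(u : G) * (x.toMul : M) * (u : G)⁻¹, hMn.conj_mem _ (x.toMul).2 _⟩ : M)
          map_zero' := by
            apply Additive.toMul.injective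
            exact Subtype.ext (by simp)
          map_add' := fun x y => by
            apply Additive.toMul.injective
            exact Subtype.ext (by simp [mul_assoc]) }
      map_one' := by
        refine DFunLike.ext _ _ fun x => ?_
        apply Additive.toMul.injective
        exact Subtype.ext (by show (1 : G) * ((x.toMul : M) : G) * (1 : G)⁻¹ = _; simp)
      map_mul' := fun u v => by
        refine DFunLike.ext _ _ fun x => ?_
        apply Additive.toMul.injective
        exact Subtype.ext (by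
          show (u : G) * v * ((x.toMul : M) : G) * ((u : G) * v)⁻¹ =
            (u : G) * ((v : G) * ((x.toMul : M) : G) * (v : G)⁻¹) * (u : G)⁻¹
          group) }
  have hρ : ∀ (u : D.F) (x : Additive M),
      (((ρ u x).toMul : M) : G) = (u : G) * ((x.toMul : M) : G) * (u : G)⁻¹ := fun _ _ => rfl
  have hMi : ∀ m ∈ M, m • D.i = D.i → m = 1 := fun m hm e => hfree m hm D.i e
  have hMinj : ∀ m m' : M, (m : G) • D.i = (m' : G) • D.i → m = m' := fun m m' e => by
    have h1 := hMi ((m' : G)⁻¹ * m) (M.mul_mem (M.inv_mem m'.2) m.2)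
      (by rw [mul_smul, e, inv_smul_smul])
    exact Subtype.ext (inv_mul_eq_one.1 h1).symm
  have hsi : ∀ (s : G), s • D.i = D.i → ∀ m : G,
      (s * m * s⁻¹) • D.i = s • m • D.i := fun s hs m => by
    rw [mul_smul, mul_smul, show s⁻¹ • D.i = D.i by rw [inv_smul_eq_iff, hs]]
  obtain ⟨K, iF, iT, τ, μ, hμinj, hμ⟩ := exists_field_of_irreducible ρ
    (fun u v huv => by
      by_contra hne
      have h1 : ∀ m : M, (u : G) * m * (u : G)⁻¹ = (v : G) * m * (v : G)⁻¹ := fun m => by
        have := congrArg (fun f : AddMonoid.End (Additive M) => f (Additive.ofMul m)) huv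
        exact congrArg (fun t : Additive M => ((t.toMul : M) : G)) this
      obtain ⟨c, hci, -⟩ := D.third
      obtain ⟨m, hm, rfl⟩ := ht D.i c
      refine hne (Subtype.ext (inv_mul_eq_one.1 (D.free ((v : G)⁻¹ * u)
        (D.F.mul_mem (D.F.inv_mem v.2) u.2) (m • D.i) hci ?_)).symm)
      rw [mul_smul, inv_smul_eq_iff]
      have h2 : ((u : G) * m * (u : G)⁻¹) • D.i = ((v : G) * m * (v : G)⁻¹) • D.i := by
        rw [h1 ⟨m, hm⟩]
      rwa [hsi _ (D.Fle _ u.2), hsi _ (D.Fle _ v.2)] at h2)
    (fun a b => by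
      refine (show Commute a b from Subtype.ext (D.Fcomm _ a.2 _ b.2)).map ρ)
    (fun W hW hWinv => by
      obtain ⟨x, hx, hx0⟩ := (AddSubgroup.bot_or_exists_ne_zero W).resolve_left hW
      rw [eq_top_iff]
      intro y _
      by_cases hy0 : y = 0
      · rw [hy0]; exact W.zero_mem
      have hne : ∀ z : Additive M, z ≠ 0 → ((z.toMul : M) : G) • D.i ≠ D.i := fun z hz e =>
        hz (Additive.toMul.injective (Subtype.ext (hMi _ (z.toMul).2 e)))
      obtain ⟨u, hu, hue⟩ := D.reg _ _ (hne x hx0) (hne y hy0)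
      have : ρ ⟨u, hu⟩ x = y := by
        apply Additive.toMul.injective
        refine hMinj _ _ ?_
        rw [hρ, hsi u (D.Fle u hu)]
        exact hue
      exact this ▸ hWinv _ x hx)
  haveI := Fintype.ofFinite (Additive M)
  have hKcard : Fintype.card K = 2 ^ r := by
    rw [Fintype.card_congr τ.toEquiv, ← Nat.card_eq_fintype_card,
      Nat.card_congr Additive.toMul, hMcard, her]
  have hμsurj : Function.Surjective μ :=
    ((Nat.bijective_iff_injective_and_card _).2 ⟨hμinj, by
      rw [Nat.card_units, Nat.card_eq_fintype_card (α := K), hKcard, hF]; omega⟩).2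
  let m : K → G := fun x => (((τ x).toMul : M) : G)
  have hmadd : ∀ x y, m (x + y) = m x * m y := fun x y => by
    simp [m, map_add]
  have hminj : Function.Injective m :=
    Subtype.val_injective.comp (Additive.toMul.injective.comp τ.injective)
  have hmsurj : ∀ n ∈ M, ∃ x, m x = n := fun n hn =>
    ⟨τ.symm (Additive.ofMul (⟨n, hn⟩ : M)), by simp [m]⟩
  have hmem : ∀ x, m x ∈ M := fun x => ((τ x).toMul).2
  have hmμ : ∀ (u : D.F) x, (u : G) * m x * (u : G)⁻¹ = m ((μ u : K) * x) := fun u x => by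
    simp only [m]
    rw [← hμ u x, hρ]
  let pos : K ≃ Ω := Equiv.ofBijective (fun x => m x • D.i) ⟨fun x y e => by
      have h1 := hMinj ⟨m x, hmem x⟩ ⟨m y, hmem y⟩ e
      exact hminj (congrArg Subtype.val h1),
    fun w => by
      obtain ⟨n, hn, rfl⟩ := ht D.i w
      obtain ⟨x, rfl⟩ := hmsurj n hn
      exact ⟨x, rfl⟩⟩
  -- the semilinear map of an element of the stabiliser
  have semi : ∀ s : stabilizer G D.i, ∃ (a : Kˣ) (φ : K ≃+* K),
      ∀ x, (s : G) * m x * (s : G)⁻¹ = m ((a : K) * φ x) := by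
    intro s
    have hψ : ∀ x, ∃ y, m y = (s : G) * m x * (s : G)⁻¹ :=
      fun x => hmsurj _ (hMn.conj_mem _ (hmem x) _)
    choose ψ hψ using hψ
    have hadd : ∀ x y, ψ (x + y) = ψ x + ψ y := fun x y => hminj (by
      rw [hψ, hmadd, hmadd, hψ, hψ]; group)
    have hψi : Function.Injective ψ := fun x y e => hminj (by
      have := congrArg m e
      rw [hψ, hψ] at this
      exact mul_left_cancel (mul_right_cancel this))
    have h0 : ψ 0 = 0 := by
      have := hadd 0 0
      rwa [add_zero, left_eq_add] at this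
    have h10 : ψ 1 ≠ 0 := fun e => one_ne_zero (hψi (e.trans h0.symm))
    have key : ∀ a x, ψ (a * x) = ψ a / ψ 1 * ψ x := by
      intro a x
      by_cases ha : a = 0
      · rw [ha, zero_mul, h0, zero_div, zero_mul]
      obtain ⟨u, hu⟩ := hμsurj (Units.mk0 a ha)
      let u' : D.F := ⟨(s : G) * u * (s : G)⁻¹, D.Fnorm _ s.2 _ u.2⟩
      have h1 : ∀ z, ψ (a * z) = (μ u' : K) * ψ z := fun z => hminj (by
        rw [hψ, ← hmμ u', hψ, show a = (μ u : K) by rw [hu]; rfl, ← hmμ u]
        simp only [u']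
        group)
      have h2 := h1 1
      rw [mul_one] at h2
      rw [h1, h2, mul_div_cancel_right₀ _ h10]
    let φ : K →+* K :=
      { toFun := fun a => ψ a / ψ 1
        map_one' := div_self h10
        map_zero' := by show ψ 0 / ψ 1 = 0; rw [h0, zero_div]
        map_add' := fun x y => by show ψ (x + y) / ψ 1 = _; rw [hadd, add_div]
        map_mul' := fun x y => by
          show ψ (x * y) / ψ 1 = _
          rw [key, mul_div_assoc] }
    refine ⟨Units.mk0 _ h10, RingEquiv.ofBijective φ
      (Finite.injective_iff_bijective.1 φ.injective), fun x => ?_⟩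
    rw [← hψ]
    congr 1
    show ψ x = ψ 1 * (ψ x / ψ 1)
    field_simp
  choose a φ hs using semi
  have huniq : ∀ (s : stabilizer G D.i) (b : Kˣ) (θ : K ≃+* K),
      (∀ x, (s : G) * m x * (s : G)⁻¹ = m ((b : K) * θ x)) → a s = b ∧ φ s = θ := by
    intro s b θ hb
    have h1 : ∀ x, (a s : K) * φ s x = (b : K) * θ x := fun x => hminj ((hs s x).symm.trans (hb x))
    have h2 := h1 1
    rw [map_one, map_one, mul_one, mul_one] at h2
    exact ⟨Units.ext h2, RingEquiv.ext fun x =>
      mul_left_cancel₀ (Units.ne_zero b) (by rw [← h1 x, h2])⟩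
  let Φ : stabilizer G D.i →* (K ≃+* K) :=
    { toFun := φ
      map_one' := (huniq 1 1 (RingEquiv.refl K) (fun x => by simp)).2
      map_mul' := fun s t => (huniq (s * t) (a s * Units.map (φ s : K →* K) (a t)) (φ s * φ t)
        (fun x => by
          rw [Subgroup.coe_mul, show (s : G) * t * m x * ((s : G) * t)⁻¹ =
            (s : G) * ((t : G) * m x * (t : G)⁻¹) * (s : G)⁻¹ by group, hs t, hs s, map_mul,
            Units.val_mul, mul_assoc]
          rfl)).2 }
  haveI : Finite (K ≃+* K) := Finite.of_injective (fun e : K ≃+* K => (e : K → K))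
    DFunLike.coe_injective
  have hker : Nat.card Φ.ker = p := by
    have hle : D.F.subgroupOf (stabilizer G D.i) ≤ Φ.ker := fun s hs' => by
      refine (huniq s (μ ⟨(s : G), hs'⟩) (RingEquiv.refl K) fun x => ?_).2
      exact hmμ ⟨(s : G), hs'⟩ x
    have h1 : Nat.card (D.F.subgroupOf (stabilizer G D.i)) = p :=
      (Nat.card_congr (Subgroup.subgroupOfEquivOfLe (fun u hu => D.Fle u hu)).toEquiv).trans hF
    refine le_antisymm ?_ (h1 ▸ Subgroup.card_le_of_le hle)
    have h2 : Nat.card Kˣ = p := by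
      rw [Nat.card_units, Nat.card_eq_fintype_card (α := K), hKcard]; omega
    rw [← h2]
    refine Nat.card_le_card_of_injective (fun s => a s.1) fun s t e => ?_
    have hx : ∀ x, (s.1 : G) • pos x = (t.1 : G) • pos x := fun x => by
      show (s.1 : G) • m x • D.i = (t.1 : G) • m x • D.i
      rw [← hsi _ s.1.2, ← hsi _ t.1.2, hs, hs, show φ s.1 = 1 from s.2, show φ t.1 = 1 from t.2]
      simp only at e
      rw [e]
    refine Subtype.ext (Subtype.ext (FaithfulSMul.eq_of_smul_eq_smul fun w : Ω => ?_))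
    obtain ⟨x, rfl⟩ := pos.surjective w
    exact hx x
  have hd : Nat.card D.H = 1 ∨ Nat.card D.H = r := by
    have h1 : Nat.card Φ.range ∣ r := card_ringAut hKcard ▸ Subgroup.card_subgroup_dvd_card _
    have h2 := Φ.ker.card_mul_index
    rw [Subgroup.index_ker, hker, D.card_stab_i, hF] at h2
    rw [← Nat.eq_of_mul_eq_mul_left hp.pos h2]
    exact (Nat.dvd_prime hrp).1 h1
  refine ⟨r, hrp, her, hd, K, iF, iT, pos, hKcard, fun g => ?_⟩
  obtain ⟨n, hn, hne⟩ := ht D.i (g • D.i)
  obtain ⟨b, rfl⟩ := hmsurj n hn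
  let s : stabilizer G D.i := ⟨(m b)⁻¹ * g, by
    rw [mem_stabilizer_iff, mul_smul, inv_smul_eq_iff, hne]⟩
  refine ⟨a s, b, φ s, fun x => ?_⟩
  show g • m x • D.i = m ((a s : K) * φ s x + b) • D.i
  rw [add_comm, hmadd, mul_smul (m b), ← hs s x, hsi _ s.2]
  simp only [s, smul_smul]
  congr 1
  group

end CfsgLib.ZassAbelian
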